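import Groth.Prelude.Def_W4c2filtblowupsingRees
import Mathlib.RingTheory.IntegralClosure.IntegrallyClosed
import Mathlib.RingTheory.Polynomial.IsIntegral
import Mathlib.RingTheory.Localization.FractionRing
import Mathlib.RingTheory.Valuation.Basic

/-!
# Rees algebras of valuation filtrations are integrally closed
-/

universe u v

namespace GrothLib.ReesVal

open Polynomial

/-- A subring of a normal domain, integrally closed inside it, is normal. -/
theorem isIntegrallyClosed_of_relative {P : Type u} [CommRing P] [IsDomain P] [IsIntegrallyClosed P]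
    {S : Type v} [SetLike S P] [SubringClass S P] (A : S)
    (h : ∀ p : P, (SubringClass.subtype A).IsIntegralElem p → p ∈ A) : IsIntegrallyClosed A := by
  rw [isIntegrallyClosed_iff (FractionRing A)]
  intro x hx
  let ι : A →+* P := SubringClass.subtype A
  let φ : FractionRing A →+* FractionRing P :=
    IsFractionRing.lift (g := (algebraMap P (FractionRing P)).comp ι)
      ((IsFractionRing.injective P (FractionRing P)).comp Subtype.val_injective)
  have hφ : ∀ z : A, φ (algebraMap A (FractionRing A) z) = algebraMap P (FractionRing P) z := fun z =>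
    IsFractionRing.lift_algebraMap _ z
  obtain ⟨f, hf, hf0⟩ := hx
  have h0 : f.eval₂ ((algebraMap P (FractionRing P)).comp ι) (φ x) = 0 := by
    have := congrArg φ hf0
    rw [Polynomial.hom_eval₂, map_zero] at this
    rwa [show φ.comp (algebraMap A (FractionRing A)) = (algebraMap P (FractionRing P)).comp ι from RingHom.ext hφ]
      at this
  have hint : IsIntegral P (φ x) := ⟨f.map ι, hf.map ι, by rw [Polynomial.eval₂_map]; exact h0⟩
  obtain ⟨y, hy⟩ := IsIntegrallyClosed.isIntegral_iff.1 hint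
  have hyA : y ∈ A := h y ⟨f, hf, IsFractionRing.injective P (FractionRing P) (by
    rw [Polynomial.hom_eval₂, map_zero, hy]; exact h0)⟩
  exact ⟨⟨y, hyA⟩, φ.injective ((hφ _).trans hy)⟩

variable {A K : Type u} [CommRing A] [Field K] [Algebra A K] (u : AddValuation K (WithTop ℤ)) (p : ℕ)

/-- All coefficients have weight at least `c`. -/
def GE (c : ℤ) (f : A[X]) : Prop := ∀ k, ((c + (k * p : ℕ) : ℤ) : WithTop ℤ) ≤ u (algebraMap A K (f.coeff k))

/-- The weight `c` is attained first in degree `k₀`. -/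
def Exact (c : ℤ) (k₀ : ℕ) (f : A[X]) : Prop :=
  GE u p c f ∧ u (algebraMap A K (f.coeff k₀)) = ((c + (k₀ * p : ℕ) : ℤ) : WithTop ℤ) ∧
    ∀ k < k₀, ((c + (k * p : ℕ) : ℤ) : WithTop ℤ) < u (algebraMap A K (f.coeff k))

theorem cast_split (c d : ℤ) (i j : ℕ) :
    ((c + d + ((i + j) * p : ℕ) : ℤ) : WithTop ℤ) =
      ((c + (i * p : ℕ) : ℤ) : WithTop ℤ) + ((d + (j * p : ℕ) : ℤ) : WithTop ℤ) := by
  rw [← WithTop.coe_add]; congr 1; push_cast; ring

variable {u p}

theorem GE.mul {c d : ℤ} {f g : A[X]} (hf : GE u p c f) (hg : GE u p d g) : GE u p (c + d) (f * g) := by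
  intro n
  rw [coeff_mul, map_sum]
  refine AddValuation.map_le_sum _ fun x hx => ?_
  rw [map_mul, u.map_mul, ← Finset.mem_antidiagonal.1 hx, cast_split]
  exact add_le_add (hf _) (hg _)

theorem Exact.mul {c d : ℤ} {i j : ℕ} {f g : A[X]} (hf : Exact u p c i f) (hg : Exact u p d j g) :
    Exact u p (c + d) (i + j) (f * g) := by
  have strict : ∀ a b, a + b ≤ i + j → (a, b) ≠ (i, j) →
      ((c + d + ((a + b) * p : ℕ) : ℤ) : WithTop ℤ) < u (algebraMap A K (f.coeff a * g.coeff b)) := by
    intro a b hab hne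
    rw [map_mul, u.map_mul, cast_split]
    rcases lt_or_ge a i with ha | ha
    · exact WithTop.add_lt_add_of_lt_of_le WithTop.coe_ne_top (hf.2.2 a ha) (hg.1 b)
    · have hb : b < j := by
        rcases lt_or_ge b j with hb | hb
        · exact hb
        · exact absurd (Prod.ext (show a = i by omega) (show b = j by omega)) hne
      exact WithTop.add_lt_add_of_le_of_lt WithTop.coe_ne_top (hf.1 a) (hg.2.2 b hb)
  refine ⟨hf.1.mul hg.1, ?_, fun n hn => ?_⟩
  · rw [coeff_mul, map_sum, ← Finset.add_sum_erase _ _ (show (i, j) ∈ Finset.antidiagonal (i + j) by simp)]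
    have h1 : u (algebraMap A K (f.coeff i * g.coeff j)) = ((c + d + ((i + j) * p : ℕ) : ℤ) : WithTop ℤ) := by
      rw [map_mul, u.map_mul, hf.2.1, hg.2.1, cast_split]
    rw [AddValuation.map_add_eq_of_lt_left, h1]
    rw [h1]
    refine AddValuation.map_lt_sum' _ (WithTop.coe_lt_top _) fun x hx => ?_
    obtain ⟨hne, hx⟩ := Finset.mem_erase.1 hx
    rw [Finset.mem_antidiagonal] at hx
    have := strict x.1 x.2 hx.le (by simpa using hne)
    rwa [hx] at this
  · rw [coeff_mul, map_sum]
    refine AddValuation.map_lt_sum' _ (WithTop.coe_lt_top _) fun x hx => ?_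
    rw [Finset.mem_antidiagonal] at hx
    have := strict x.1 x.2 (by omega) (fun e => by rw [Prod.ext_iff] at e; simp only at e; omega)
    rwa [hx] at this

theorem Exact.pow {c : ℤ} {i : ℕ} {f : A[X]} (hf : Exact u p c i f) (m : ℕ) :
    Exact u p (m * c) (m * i) (f ^ m) := by
  induction m with
  | zero =>
    refine ⟨fun k => ?_, by simp, fun k hk => by simp at hk⟩
    rcases Nat.eq_zero_or_pos k with rfl | hk
    · simp
    · simp [coeff_one, hk.ne']
  | succ m ih =>
    rw [pow_succ]
    convert ih.mul hf using 1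
    · push_cast; ring
    · ring

theorem GE.pow {c : ℤ} {f : A[X]} (hf : GE u p c f) (m : ℕ) : GE u p (m * c) (f ^ m) := by
  induction m with
  | zero =>
    intro k
    rcases Nat.eq_zero_or_pos k with rfl | hk
    · simp
    · simp [coeff_one, hk.ne']
  | succ m ih =>
    rw [pow_succ]
    convert ih.mul hf using 1
    push_cast; ring

theorem exists_exact {f : A[X]} (h : ¬ GE u p 0 f) : ∃ c < (0 : ℤ), ∃ i, Exact u p c i f := by
  classical
  simp only [GE, not_forall, not_le, zero_add] at h
  obtain ⟨k₁, hk₁⟩ := h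
  let w : ℕ → ℤ := fun k => (u (algebraMap A K (f.coeff k))).untopD 0 - ((k * p : ℕ) : ℤ)
  let S := f.support.filter fun k => u (algebraMap A K (f.coeff k)) ≠ ⊤
  have hS : ∀ k, u (algebraMap A K (f.coeff k)) ≠ ⊤ → k ∈ S := fun k hk => by
    refine Finset.mem_filter.2 ⟨mem_support_iff.2 fun e => hk ?_, hk⟩
    rw [e, map_zero, u.map_zero]
  have hw : ∀ k ∈ S, u (algebraMap A K (f.coeff k)) = ((w k + ((k * p : ℕ) : ℤ) : ℤ) : WithTop ℤ) := by
    intro k hk
    obtain ⟨z, hz⟩ := WithTop.ne_top_iff_exists.1 (Finset.mem_filter.1 hk).2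
    simp [w, ← hz]
  have hk₁S : k₁ ∈ S := hS k₁ hk₁.ne_top
  obtain ⟨m, hm, hmin⟩ := Finset.exists_min_image S w ⟨k₁, hk₁S⟩
  have hex : ∃ k, k ∈ S ∧ w k = w m := ⟨m, hm, rfl⟩
  have hi := Nat.find_spec hex
  refine ⟨w m, ?_, Nat.find hex, fun k => ?_, ?_, fun k hk => ?_⟩
  · have h1 := hmin k₁ hk₁S
    rw [hw k₁ hk₁S, WithTop.coe_lt_coe] at hk₁
    omega
  · by_cases hk : u (algebraMap A K (f.coeff k)) = ⊤
    · rw [hk]; exact le_top
    · rw [hw k (hS k hk), WithTop.coe_le_coe]
      have := hmin k (hS k hk); omega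
  · rw [hw _ hi.1, hi.2]
  · by_cases hk' : u (algebraMap A K (f.coeff k)) = ⊤
    · rw [hk']; exact WithTop.coe_lt_top _
    · rw [hw k (hS k hk'), WithTop.coe_lt_coe]
      have h1 := hmin k (hS k hk')
      have h2 : w k ≠ w m := fun e => Nat.find_min hex hk ⟨hS k hk', e⟩
      omega

/-- Integrality over polynomials of nonnegative weight preserves nonnegative weight. -/
theorem GE_zero_of_integral {S : Type v} [SetLike S A[X]] [SubringClass S A[X]] (R : S)
    (hR : ∀ r ∈ R, GE u p 0 r) (f : A[X]) (h : (SubringClass.subtype R).IsIntegralElem f) : GE u p 0 f := by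
  by_contra hf
  obtain ⟨c, hc, i, hci⟩ := exists_exact hf
  obtain ⟨P, hP, hP0⟩ := h
  rw [Polynomial.eval₂_eq_sum_range, Finset.sum_range_succ, hP.coeff_natDegree] at hP0
  set m := P.natDegree
  have hm := (hci.pow m).2.1
  have h1 : f ^ m = -∑ j ∈ Finset.range m, (SubringClass.subtype R) (P.coeff j) * f ^ j := by
    rw [map_one, one_mul] at hP0
    linear_combination hP0
  rw [h1, coeff_neg, map_neg, u.map_neg, finsetSum_coeff, map_sum] at hm
  refine absurd hm (ne_of_gt (AddValuation.map_lt_sum' _ (WithTop.coe_lt_top _) fun j hj => ?_))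
  rw [Finset.mem_range] at hj
  refine lt_of_lt_of_le ?_ (((hR _ (P.coeff j).2).mul (hci.1.pow j)) (m * i))
  rw [WithTop.coe_lt_coe]
  have : (m : ℤ) * c < j * c := by nlinarith
  omega

/-- An additive valuation scaled by a positive integer. -/
noncomputable def scale (v : AddValuation K (WithTop ℤ)) (q : ℕ) (hq : 0 < q) : AddValuation K (WithTop ℤ) :=
  AddValuation.of (fun x => q • v x)
    (by
      change q • v 0 = ⊤
      obtain ⟨q, rfl⟩ : ∃ r, q = r + 1 := ⟨q - 1, by omega⟩
      rw [v.map_zero, succ_nsmul, WithTop.add_top])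
    (by change q • v 1 = 0; rw [v.map_one, smul_zero])
    (fun x y => by
      change min (q • v x) (q • v y) ≤ q • v (x + y)
      rcases le_total (v x) (v y) with h | h
      · exact (min_le_left _ _).trans (nsmul_le_nsmul_right ((le_min le_rfl h).trans (v.map_add x y)) q)
      · exact (min_le_right _ _).trans (nsmul_le_nsmul_right ((le_min h le_rfl).trans (v.map_add x y)) q))
    (fun x y => by change q • v (x * y) = q • v x + q • v y; rw [v.map_mul, nsmul_add])

theorem scale_apply (v : AddValuation K (WithTop ℤ)) (q : ℕ) (hq : 0 < q) (x : K) :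
    scale v q hq x = (q : WithTop ℤ) * v x := by
  change q • v x = _
  induction v x with
  | top =>
    obtain ⟨q, rfl⟩ : ∃ r, q = r + 1 := ⟨q - 1, by omega⟩
    rw [succ_nsmul, WithTop.add_top, WithTop.mul_top]
    exact_mod_cast Nat.succ_ne_zero q
  | coe z =>
    rw [← WithTop.coe_nsmul, show (q : WithTop ℤ) = ((q : ℤ) : WithTop ℤ) from rfl, ← WithTop.coe_mul]
    simp

end GrothLib.ReesVal
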